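import Cfsg.Agent.TwoTranspClasses.TwoSystems
import Cfsg.Agent.Transpositions.Classes
import Cfsg.Agent.Components.FStar
import Cfsg.Prelude.Def_Transfer

/-!
# A group over an elementary abelian self-centralising 2-core has one class of 3-transpositions
-/

set_option autoImplicit false

namespace CfsgLib.TwoTranspClasses

open Cfsg CfsgLib.Transpositions
open scoped IsMulCommutative

variable {G : Type*} [Group G]

section

variable (V : Subgroup G) [V.Normal] [IsMulCommutative V]

/-- Conjugation as endomorphisms of the abelian normal subgroup. -/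
noncomputable def act : G →* AddMonoid.End (Additive V) where
  toFun g := (MulAut.conjNormal g : MulAut V).toMonoidHom.toAdditive
  map_one' := AddMonoidHom.ext fun m => by
    show Additive.ofMul ((MulAut.conjNormal 1 : MulAut V) (Additive.toMul m)) = m
    rw [map_one]
    rfl
  map_mul' a b := AddMonoidHom.ext fun m => by
    show Additive.ofMul ((MulAut.conjNormal (a * b) : MulAut V) (Additive.toMul m))
      = Additive.ofMul ((MulAut.conjNormal a : MulAut V) ((MulAut.conjNormal b : MulAut V) (Additive.toMul m)))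
    rw [map_mul]
    rfl

/-- An element of the subgroup as an element of the group. -/
def val (m : Additive V) : G := ((Additive.toMul m : V) : G)

omit [V.Normal] [IsMulCommutative V] in
theorem val_injective : Function.Injective (val V) :=
  fun a b h => Additive.toMul.injective (Subtype.ext h)

omit [V.Normal] [IsMulCommutative V] in
theorem val_mem (m : Additive V) : val V m ∈ V := (Additive.toMul m).2

omit [V.Normal] in
theorem val_add (a b : Additive V) : val V (a + b) = val V a * val V b := rfl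

omit [V.Normal] in
theorem val_zero : val V (0 : Additive V) = 1 := rfl

theorem val_act (g : G) (m : Additive V) : val V (act V g • m) = g * val V m * g⁻¹ :=
  MulAut.conjNormal_apply g (Additive.toMul m)

theorem h2_of_exponent (hsq : ∀ v ∈ V, v * v = 1) : (1 : AddMonoid.End (Additive V)) + 1 = 0 := by
  refine AddMonoidHom.ext fun m => val_injective V ?_
  show val V (m + m) = val V 0
  rw [val_add, val_zero]
  exact hsq _ (val_mem V m)

theorem val_dlt {d : G} (m : Additive V) :
    val V (dlt (act V) d • m) = d * val V m * d⁻¹ * val V m := by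
  rw [dlt, add_smul, one_smul, val_add, val_act]

theorem act_eq_of_mem {a b : G} (h : a⁻¹ * b ∈ V) : act V a = act V b := by
  refine AddMonoidHom.ext fun m => ?_
  show act V a • m = act V b • m
  refine val_injective V ?_
  rw [val_act, val_act]
  obtain ⟨w, hw, rfl⟩ : ∃ w, w ∈ V ∧ b = a * w := ⟨_, h, by group⟩
  have : w * val V m = val V m * w := congrArg Subtype.val
    (mul_comm' (⟨w, hw⟩ : V) (Additive.toMul m))
  calc a * val V m * a⁻¹ = a * (val V m * w) * w⁻¹ * a⁻¹ := by group
    _ = a * (w * val V m) * w⁻¹ * a⁻¹ := by rw [this]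
    _ = _ := by group

variable {V} (hV2 : IsPGroup 2 V) (hsq : ∀ v ∈ V, v * v = 1)
variable {D : Set G} (hD : IsThreeTranspositionClass D)

include hV2 hD in
theorem commute_iff_image {c d : G} (hc : c ∈ D) (hd : d ∈ D) :
    Commute (c : G ⧸ V) (d : G ⧸ V) ↔ Commute c d := by
  refine ⟨fun h => ?_, fun h => h.map (QuotientGroup.mk' V)⟩
  by_contra hn
  have e3 : ((c * d : G) : G ⧸ V) ^ 3 = 1 := by
    rw [← QuotientGroup.mk_pow, cube_eq_one hD.1 hc hd hn, QuotientGroup.mk_one]
  have e2 : ((c * d : G) : G ⧸ V) ^ 2 = 1 := by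
    rw [QuotientGroup.mk_mul, h.mul_pow, pow_two, pow_two, ← QuotientGroup.mk_mul,
      ← QuotientGroup.mk_mul, sq hD.1 hc, sq hD.1 hd, QuotientGroup.mk_one, one_mul]
  have e1 : ((c * d : G) : G ⧸ V) = 1 := by
    rw [pow_succ, e2, one_mul] at e3; exact e3
  exact hn (commute_of_isPGroup hD.1 hc hd Nat.prime_two (by norm_num) hV2
    ((QuotientGroup.eq_one_iff _).1 e1))

include hV2 hD in
theorem norm_eq_zero {c d w : G} (hc : c ∈ D) (hd : d ∈ D) (hn : ¬ Commute c d) (hw : w ∈ V)
    (hdw : d * w ∈ D) {m : Additive V} (hm : val V m = w) :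
    m + act V (c * d) • m + act V (d * c) • m = 0 := by
  have hn' : ¬ Commute c (d * w) := fun h => hn ((commute_iff_image hV2 hD hc hd).1 (by
    have := (commute_iff_image hV2 hD hc hdw).2 h
    rwa [QuotientGroup.mk_mul, (QuotientGroup.eq_one_iff w).2 hw, mul_one] at this))
  have h := cube_eq_one hD.1 hc hdw hn'
  have hg := cube_eq_one hD.1 hc hd hn
  refine val_injective V ?_
  rw [val_add, val_add, val_act, val_act, val_zero, hm]
  obtain ⟨g, hgdef⟩ : ∃ g, g = c * d := ⟨_, rfl⟩
  have hdc : d * c = g⁻¹ := by rw [hgdef, mul_inv_rev, inv_eq hD.1 hc, inv_eq hD.1 hd]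
  rw [hdc, ← hgdef]
  rw [← mul_assoc c d w, ← hgdef] at h
  have hgg : g * g = g⁻¹ := by
    rw [eq_inv_iff_mul_eq_one, ← pow_two, ← pow_succ, hgdef]; exact hg
  have hcm : ∀ a ∈ V, ∀ b ∈ V, a * b = b * a := fun a ha b hb =>
    congrArg Subtype.val (mul_comm' (⟨a, ha⟩ : V) ⟨b, hb⟩)
  have hi : ∀ x ∈ V, ∀ y, y * x * y⁻¹ ∈ V := fun x hx y => Subgroup.Normal.conj_mem ‹_› x hx y
  calc w * (g * w * g⁻¹) * (g⁻¹ * w * g⁻¹⁻¹)
      = (g * w * g⁻¹) * (g⁻¹ * w * g⁻¹⁻¹) * w := by
        rw [mul_assoc, hcm w hw _ (mul_mem (hi w hw g) (hi w hw g⁻¹))]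
    _ = g * w * (g⁻¹ * g⁻¹) * w * g * w := by group
    _ = g * w * g * w * g * w := by rw [← mul_inv_rev, hgg, inv_inv]
    _ = 1 := by
      rw [← h, pow_succ, pow_two]
      simp only [mul_assoc]

include hV2 hsq hD in
theorem fixed_of_mem {d w : G} (hd : d ∈ D) (hw : w ∈ V) (hdw : d * w ∈ D) {m : Additive V}
    (hm : val V m = w) : dlt (act V) d • m = 0 := by
  refine val_injective V ?_
  rw [val_dlt, val_zero, hm, inv_eq hD.1 hd]
  exact sq hD.1 hdw |> fun h => by simpa [mul_assoc] using h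

include hsq in
/-- `1 + g + g⁻¹` on a vector fixed by `d`, for `g = c d`. -/
theorem norm_eq {c d : G} (hdd : d * d = 1) {m : Additive V} (hm : dlt (act V) d • m = 0) :
    m + act V (c * d) • m + act V (d * c) • m = m + dlt (act V) d • (act V c • m) := by
  have e : act V d • m = m := by
    rw [rho_eq (h2_of_exponent V hsq) d, add_smul, hm, zero_add, one_smul]
  rw [map_mul, map_mul, mul_smul, mul_smul, e, dlt, add_smul, one_smul]
  abel

include hV2 hsq hD in
/-- Two members over the same image differ by a commutator. -/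
theorem uniq {c d w : G} (hc : c ∈ D) (hd : d ∈ D) (hn : ¬ Commute c d) (hw : w ∈ V)
    (hdw : d * w ∈ D) {m : Additive V} (hm : val V m = w) :
    ∃ r : Additive V, m = dlt (act V) d • r := by
  refine ⟨act V c • m, ?_⟩
  have h := norm_eq hsq (c := c) (sq hD.1 hd) (fixed_of_mem hV2 hsq hD hd hw hdw hm)
  rw [norm_eq_zero hV2 hD hc hd hn hw hdw hm] at h
  calc m = m + (m + dlt (act V) d • (act V c • m)) := by rw [← h, add_zero]
    _ = _ := by rw [← add_assoc, add_self_M (h2_of_exponent V hsq), zero_add]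

include hV2 hsq hD in
theorem sys : Sys (act V) D := by
  have hG := isThreeTranspositionGroup_of_class hD
  have hmem : ∀ d ∈ D, ∀ m : Additive V, d * val V (dlt (act V) d • m) ∈ D := by
    intro d hd m
    rw [val_dlt]
    have e : d * (d * val V m * d⁻¹ * val V m) = (d * d) * (val V m * d * (val V m)⁻¹) := by
      rw [inv_eq hD.1 hd, inv_eq_of_mul_eq_one_right (hsq _ (val_mem V m))]; group
    rw [e, sq hD.1 hd, one_mul]
    exact hG.2.1 _ d hd
  refine ⟨hD.1, hG.2.1, fun c hc d hd hcd => ?_, fun c hc d hd hn => ?_⟩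
  · refine AddMonoidHom.ext fun m => ?_
    show (dlt (act V) c * dlt (act V) d) • m = 0
    rw [mul_smul]
    refine val_injective V ?_
    set r := dlt (act V) d • m with hr
    have hx := hmem d hd m
    have h1 : Commute c (d * val V r) := (commute_iff_image hV2 hD hc hx).1 (by
      rw [QuotientGroup.mk_mul, (QuotientGroup.eq_one_iff _).2 (val_mem V r), mul_one]
      exact hcd.map (QuotientGroup.mk' V))
    have h2 : Commute c (val V r) := by
      have := hcd.inv_right.mul_right h1
      rwa [inv_mul_cancel_left] at this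
    rw [val_dlt, val_zero, h2.eq, mul_inv_cancel_right]
    exact hsq _ (val_mem V r)
  · refine AddMonoidHom.ext fun m => ?_
    show (dlt (act V) d * dlt (act V) c * dlt (act V) d) • m = dlt (act V) d • m
    set r := dlt (act V) d • m with hr
    have hz : dlt (act V) d • r = 0 :=
      fixed_of_mem hV2 hsq hD hd (val_mem V r) (hmem d hd m) rfl
    have hN := norm_eq_zero hV2 hD hc hd hn (val_mem V r) (hmem d hd m) rfl
    rw [norm_eq hsq (sq hD.1 hd) hz] at hN
    have addM := add_self_M (M := Additive V) (h2_of_exponent V hsq)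
    have e : dlt (act V) d • (act V c • r) = dlt (act V) d • (dlt (act V) c • r) := by
      rw [rho_eq (h2_of_exponent V hsq) c, add_smul, one_smul, smul_add, hz, add_zero]
    rw [e] at hN
    rw [mul_smul, mul_smul, ← hr]
    calc dlt (act V) d • dlt (act V) c • r
        = r + (r + dlt (act V) d • dlt (act V) c • r) := by rw [← add_assoc, addM, zero_add]
      _ = r := by rw [hN, add_zero]

end

variable [Finite G] {D : Set G}

theorem exists_two (hD : IsThreeTranspositionClass D) (hZ : Subgroup.center G = ⊥) :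
    ∃ a ∈ D, ∃ b ∈ D, a ≠ b := by
  by_contra h
  push Not at h
  obtain ⟨hset, ⟨d, hd, -⟩, hgen⟩ := hD
  have hc : d ∈ Subgroup.center G := by
    refine Subgroup.mem_center_iff.2 fun g => ?_
    have hle : Subgroup.closure D ≤ Subgroup.centralizer {d} := (Subgroup.closure_le _).2
      fun y hy => Subgroup.mem_centralizer_iff.2 fun z hz => by
        rw [Set.mem_singleton_iff.1 hz, h y hy d hd]
    exact ((Subgroup.mem_centralizer_iff.1 (hle (hgen ▸ Subgroup.mem_top g))) d rfl).symm
  rw [hZ, Subgroup.mem_bot] at hc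
  exact ne_one hset hd hc

theorem not_mem_core (hD : IsThreeTranspositionClass D) (hZ : Subgroup.center G = ⊥)
    (hV : IsElementaryAbelian 2 (pCore 2 G)) {d : G} (hd : d ∈ D) : d ∉ pCore 2 G := by
  intro h
  obtain ⟨a, ha, b, hb, hne⟩ := exists_two hD hZ
  have hall : ∀ y ∈ D, y ∈ pCore 2 G := fun y hy => by
    obtain ⟨g, rfl⟩ := exists_conj_of_class hD hd hy
    exact (inferInstance : (pCore 2 G).Normal).conj_mem d h g
  obtain ⟨c, hc, hn⟩ := exists_not_commute_of_class hD ⟨a, ha, b, hb, hne⟩ hd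
  have := hV.1
  exact hn (congrArg Subtype.val (mul_comm' (⟨d, h⟩ : pCore 2 G) ⟨c, hall c hc⟩))

theorem image_class (hD : IsThreeTranspositionClass D) (hnm : ∀ d ∈ D, d ∉ pCore 2 G) :
    IsThreeTranspositionClass (QuotientGroup.mk' (pCore 2 G) '' D) := by
  obtain ⟨⟨hord, h3⟩, ⟨d₀, hd₀, hcl⟩, hgen⟩ := hD
  set π := QuotientGroup.mk' (pCore 2 G)
  have hsurj : Function.Surjective π := QuotientGroup.mk'_surjective _
  refine ⟨⟨?_, ?_⟩, ⟨π d₀, ⟨d₀, hd₀, rfl⟩, ?_⟩, ?_⟩
  · rintro _ ⟨d, hd, rfl⟩
    refine orderOf_eq_prime ?_ fun h => hnm d hd ((QuotientGroup.eq_one_iff d).1 h)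
    rw [← map_pow, show d ^ 2 = 1 from hord d hd ▸ pow_orderOf_eq_one d, map_one]
  · rintro _ ⟨d, hd, rfl⟩ _ ⟨e, he, rfl⟩
    rcases h3 d hd e he with h | h
    · left; rw [← map_mul, ← map_pow, h, map_one]
    · right; rw [← map_mul, ← map_pow, h, map_one]
  · ext y
    simp only [conjugatesOf, Set.mem_setOf_eq, Set.mem_image]
    constructor
    · rintro ⟨d, hd, rfl⟩
      rw [hcl] at hd
      exact π.map_isConj hd
    · intro hy
      obtain ⟨k, rfl⟩ := isConj_iff.1 hy
      obtain ⟨g, rfl⟩ := hsurj k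
      refine ⟨g * d₀ * g⁻¹, ?_, by simp⟩
      rw [hcl]
      exact isConj_iff.2 ⟨g, rfl⟩
  · rw [← MonoidHom.map_closure, hgen, Subgroup.map_top_of_surjective _ hsurj]

theorem sep_of_core {Q : Type*} [Group Q] [Finite Q] {T : Set Q}
    (hT : IsThreeTranspositionClass T) (hQ : pCore 2 Q = ⊥) : Sep T := by
  intro f hf d hd hne
  by_contra h
  push Not at h
  have hG := isThreeTranspositionGroup_of_class hT
  obtain ⟨g, hg⟩ := exists_conj_of_class hT hf hd
  have hsub : {y | y ∈ T ∧ Commute y f} ⊆ {y | y ∈ T ∧ Commute y d} :=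
    fun y hy => ⟨hy.1, h y hy.1 hy.2⟩
  have himg : {y | y ∈ T ∧ Commute y d} = (fun y => g * y * g⁻¹) '' {y | y ∈ T ∧ Commute y f} := by
    ext y
    constructor
    · rintro ⟨hy, hyd⟩
      refine ⟨g⁻¹ * y * g, ⟨by simpa using hG.2.1 g⁻¹ y hy, ?_⟩, by group⟩
      have := (commute_conj_iff g⁻¹ y d).2 hyd
      rw [← hg] at this
      simpa [mul_assoc] using this
    · rintro ⟨z, ⟨hz, hzf⟩, rfl⟩
      exact ⟨hG.2.1 g z hz, hg ▸ (commute_conj_iff g z f).2 hzf⟩
  have heq := Set.eq_of_subset_of_ncard_le hsub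
    (by rw [himg, Set.ncard_image_of_injective _ fun x y e => by simpa using e]) (Set.toFinite _)
  have hrel : VRel T f d := by
    refine ⟨hd, fun e he => ⟨fun h' => ?_, fun h' => (h e he h'.symm).symm⟩⟩
    exact ((heq.symm ▸ (⟨he, h'.symm⟩ : e ∈ {y | y ∈ T ∧ Commute y d}) :
      e ∈ {y | y ∈ T ∧ Commute y f})).2.symm
  have hm := mul_mem_pCore_two_of_vRel hG hf hrel
  rw [hQ, Subgroup.mem_bot] at hm
  exact hne ((mul_eq_one_iff hT.1 hd).1 hm)

/-- **The class of 3-transpositions is unique.** -/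
theorem class_subset {D E : Set G} (hD : IsThreeTranspositionClass D)
    (hE : IsThreeTranspositionClass E) (hZ : Subgroup.center G = ⊥)
    (hF : generalizedFittingSubgroup G = pCore 2 G)
    (hV : IsElementaryAbelian 2 (pCore 2 G)) : E ⊆ D := by
  have := hV.1
  have hsq : ∀ v ∈ pCore 2 G, v * v = 1 := fun v hv => by rw [← pow_two]; exact hV.2 v hv
  have hV2 : IsPGroup 2 (pCore 2 G) := CfsgLib.PLocal.isPGroup_pCore 2 G
  have h2 := h2_of_exponent (pCore 2 G) hsq
  have SD := sys hV2 hsq hD
  have SE := sys hV2 hsq hE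
  obtain ⟨A, hA⟩ : ∃ A, A = act (pCore 2 G) := ⟨_, rfl⟩
  rw [← hA] at SD SE
  have hker : pCore 2 G ≤ A.ker := fun v hv => by
    rw [MonoidHom.mem_ker, ← A.map_one, hA]
    exact act_eq_of_mem (pCore 2 G) (by simpa using inv_mem hv)
  let ρ := QuotientGroup.lift (pCore 2 G) A hker
  have hρA : ∀ g : G, ρ (g : G ⧸ pCore 2 G) = A g := fun g => rfl
  have hker' : A.ker ≤ pCore 2 G := by
    intro g hg
    have hg' : g ∈ Subgroup.centralizer (pCore 2 G : Set G) := by
      refine Subgroup.mem_centralizer_iff.2 fun v hv => ?_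
      have h := val_act (pCore 2 G) g (Additive.ofMul ⟨v, hv⟩)
      rw [← hA, MonoidHom.mem_ker.1 hg, one_smul] at h
      exact (mul_inv_eq_iff_eq_mul.1 h.symm).symm
    have hC := CfsgLib.Components.centralizer_generalizedFitting_le_self (G := G)
    rw [hF] at hC
    exact hC hg'
  have hρ : Function.Injective ρ := by
    rw [injective_iff_map_eq_one]
    intro q hq
    obtain ⟨g, rfl⟩ := QuotientGroup.mk'_surjective _ q
    exact (QuotientGroup.eq_one_iff g).2 (hker' hq)
  -- the image systems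
  set π := QuotientGroup.mk' (pCore 2 G) with hπ
  have imSys : ∀ {C : Set G}, IsThreeTranspositionClass C → Sys A C → Sys ρ (π '' C) := by
    intro C hC SC
    have hI := image_class hC fun d hd => not_mem_core hC hZ hV hd
    refine ⟨hI.1, (isThreeTranspositionGroup_of_class hI).2.1, ?_, ?_⟩
    · rintro _ ⟨c, hc, rfl⟩ _ ⟨d, hd, rfl⟩ h
      exact SC.orth c hc d hd ((commute_iff_image hV2 hC hc hd).1 h)
    · rintro _ ⟨c, hc, rfl⟩ _ ⟨d, hd, rfl⟩ h
      exact SC.loop c hc d hd fun h' => h ((commute_iff_image hV2 hC hc hd).2 h')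
  have hT := image_class hD fun d hd => not_mem_core hD hZ hV hd
  have hQ : pCore 2 (G ⧸ pCore 2 G) = ⊥ := CfsgLib.PLocal.pCore_quotient_pCore_eq_bot 2 G
  have hsep := sep_of_core hT hQ
  have hcen : ∀ z ∈ Subgroup.center (G ⧸ pCore 2 G), z * z = 1 → z = 1 := by
    intro z hz hzz
    haveI : (Subgroup.zpowers z).Normal := ⟨fun n hn g => by
      have hnc := Subgroup.zpowers_le.2 hz hn
      rwa [(Subgroup.mem_center_iff.1 hnc g), mul_inv_cancel_right]⟩
    have hp : IsPGroup 2 (Subgroup.zpowers z) := fun x => ⟨1, Subtype.ext (by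
      obtain ⟨i, hi⟩ := Subgroup.mem_zpowers_iff.1 x.2
      rw [SubmonoidClass.coe_pow, ← hi, ← zpow_natCast, zpow_comm, zpow_natCast, pow_one, pow_two,
        hzz, one_zpow]
      rfl)⟩
    have h := CfsgLib.PLocal.le_pCore hp (Subgroup.mem_zpowers z)
    rwa [hQ, Subgroup.mem_bot] at h
  have hUT := subset_of_two_systems (ρ := ρ)
    (by exact h2) hρ (imSys hD SD) (imSys hE SE) hsep hT.2.2
    (fun a ha b hb => exists_conj_of_class hT ha hb) hcen
  -- lifting
  have h2D := exists_two hD hZ
  have h2E := exists_two hE hZ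
  intro e he
  obtain ⟨d, hd, hde⟩ := hUT ⟨e, he, rfl⟩
  have hv : d * e ∈ pCore 2 G := by
    have := (QuotientGroup.eq (s := pCore 2 G)).1 hde
    rwa [inv_eq hD.1 hd] at this
  obtain ⟨v, hvdef⟩ : ∃ v : Additive (pCore 2 G), val _ v = d * e :=
    ⟨Additive.ofMul ⟨_, hv⟩, rfl⟩
  have hev : d * val _ v = e := by rw [hvdef, mul_cancel_left hD.1 hd]
  obtain ⟨c, hc, hdc⟩ := exists_not_commute_of_class hD h2D hd
  -- membership in the commutator coset
  have coset : ∀ d' ∈ D, ∀ v' : Additive (pCore 2 G), d' * val _ v' ∈ E → ∀ h : G, Commute h d' →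
      ∃ m, A h • v' + v' = dlt A d' • m := by
    intro d' hd' v' he' h hh
    obtain ⟨c', hc', hn'⟩ := exists_not_commute_of_class hE h2E he'
    have hconj := SE.conj h _ he'
    have hval : val _ (A h • v' + v') = h * val _ v' * h⁻¹ * val _ v' := by
      rw [val_add, hA, val_act]
    have hmem : d' * val _ v' * (h * val _ v' * h⁻¹ * val _ v') ∈ E := by
      have e1 : d' * val _ v' * (h * val _ v' * h⁻¹ * val _ v')
          = d' * (h * val _ v' * h⁻¹) := by
        have hcomm : val _ v' * (h * val _ v' * h⁻¹) = (h * val _ v' * h⁻¹) * val _ v' :=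
          congrArg Subtype.val (mul_comm' (⟨_, val_mem _ v'⟩ : pCore 2 G)
            ⟨_, (inferInstance : (pCore 2 G).Normal).conj_mem _ (val_mem _ v') h⟩)
        rw [mul_assoc, ← mul_assoc (val _ v'), hcomm, mul_assoc (h * val _ v' * h⁻¹),
          hsq _ (val_mem _ v'), mul_one]
      rw [e1, show d' * (h * val _ v' * h⁻¹) = h * (d' * val _ v') * h⁻¹ by
        rw [← mul_assoc h d', hh.eq]; group]
      exact hconj
    obtain ⟨m, hm⟩ := uniq hV2 hsq hE hc' he' (fun h => hn' h.symm)
      (hval ▸ val_mem _ _) hmem hval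
    refine ⟨m, hm.trans ?_⟩
    rw [← hA]
    have hAeq : A (d' * val _ v') = A d' := by
      rw [hA]; exact act_eq_of_mem _ (by
        rw [mul_inv_rev, mul_assoc, inv_mul_cancel, mul_one]; exact inv_mem (val_mem _ v'))
    simp only [dlt, hAeq]
  have addM := add_self_M (M := Additive (pCore 2 G)) h2
  have orthM : ∀ a ∈ D, ∀ b ∈ D, Commute a b → ∀ m : Additive (pCore 2 G),
      dlt A a • dlt A b • m = 0 := fun a ha b hb hab m => by
    rw [smul_smul, SD.orth a ha b hb hab]; rfl
  have loopM : ∀ a ∈ D, ∀ b ∈ D, ¬ Commute a b → ∀ m : Additive (pCore 2 G),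
      dlt A b • dlt A a • dlt A b • m = dlt A b • m := fun a ha b hb hab m => by
    rw [smul_smul, smul_smul, SD.loop a ha b hb hab]
  -- the fixed vector attached to a line
  have hfix : ∀ d' ∈ D, ∀ c' ∈ D, ¬ Commute c' d' → ∀ v' : Additive (pCore 2 G),
      d' * val _ v' ∈ E → ∀ f ∈ D, Commute f d' →
      dlt A f • (v' + A (c' * d') • v' + A (d' * c') • v') = 0 := by
    intro d' hd' c' hc' hn' v' he' f hf hfd
    have hz : dlt A d' • v' = 0 := by
      refine val_injective _ ?_
      rw [hA, val_dlt, val_zero, inv_eq hD.1 hd']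
      simpa [mul_assoc] using sq hE.1 he'
    have hφv : dlt A f • v' = 0 := by
      by_cases hfe : (f : G ⧸ pCore 2 G) = d'
      · have : A f = A d' := by rw [← hρA, ← hρA, hfe]
        simpa only [dlt, this] using hz
      · obtain ⟨_, ⟨h, hh, rfl⟩, hhd, hhf⟩ :=
          hsep _ ⟨d', hd', rfl⟩ _ ⟨f, hf, rfl⟩ (fun h => hfe h.symm)
        obtain ⟨m, hm⟩ := coset d' hd' v' he' f hfd
        have e1 : dlt A f • v' = dlt A d' • m := by
          rw [← hm, dlt, add_smul, one_smul]
        have hcd : Commute h d' := (commute_iff_image hV2 hD hh hd').1 hhd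
        have hnf : ¬ Commute h f := fun h' => hhf ((commute_iff_image hV2 hD hh hf).2 h')
        rw [← loopM h hh f hf hnf, e1, orthM h hh d' hd' hcd, smul_zero]
    rw [hA, norm_eq hsq (sq hD.1 hd') (hA ▸ hz), ← hA, smul_add, hφv, zero_add,
      orthM f hf d' hd' hfd]
  obtain ⟨k, hk⟩ : ∃ k, k = d * c := ⟨_, rfl⟩
  have hcd : ¬ Commute c d := fun h => hdc h.symm
  have s1 := sq hD.1 hd
  have s2 := sq hD.1 hc
  have hb := braid hD.1 hd hc hdc
  have hk3 : k ^ 3 = 1 := hk ▸ cube_eq_one hD.1 hd hc hdc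
  have hkk : k * k = k⁻¹ := by rw [eq_inv_iff_mul_eq_one, ← hk3, pow_succ, pow_two]
  have hcdk : c * d = k⁻¹ := by rw [hk, mul_inv_rev, inv_eq hD.1 hd, inv_eq hD.1 hc]
  obtain ⟨u, hu⟩ : ∃ u, u = v + A (c * d) • v + A (d * c) • v := ⟨_, rfl⟩
  have hwd : d * c * d ∈ D := conj_mem_of_mem hD.1 SD.conj hd hc
  have hu0 : ∀ f ∈ D, Commute f d → dlt A f • u = 0 :=
    hu ▸ hfix d hd c hc hcd v (hev.symm ▸ he)
  have hk1 : k * d * k⁻¹ = c := by
    rw [← hcdk, hk, show d * c * d * (c * d) = (d * c * d) * c * d by group, hb]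
    simp only [mul_assoc, mul_cancel_left hD.1 hc, s1, mul_one]
  have hk2 : k * c * k⁻¹ = d * c * d := by
    rw [← hcdk, hk]
    simp only [mul_assoc, mul_cancel_left hD.1 hc]
  -- transport along the line
  have e1 : c * val _ (A k • v) ∈ E := by
    have h := SE.conj k e he
    rw [hA, val_act]
    rwa [← hev, show k * (d * val _ v) * k⁻¹ = (k * d * k⁻¹) * (k * val _ v * k⁻¹) by group, hk1] at h
  have e2 : d * c * d * val _ (A k • (A k • v)) ∈ E := by
    have h := SE.conj k _ e1
    rw [hA, val_act, ← hA]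
    rwa [show k * (c * val _ (A k • v)) * k⁻¹
      = (k * c * k⁻¹) * (k * val _ (A k • v) * k⁻¹) by group, hk2] at h
  have r1 : c * (d * c * d) = k := by
    rw [hb, ← mul_assoc, ← mul_assoc, s2, one_mul, hk]
  have r2 : d * c * d * c = k⁻¹ := by rw [← hkk, hk]; group
  have r3 : d * c * d * d = k := by rw [mul_assoc, s1, mul_one, hk]
  have r4 : d * (d * c * d) = k⁻¹ := by rw [← mul_assoc, ← mul_assoc, s1, one_mul, hcdk]
  have hrot : A k • (v + A k⁻¹ • v + A k • v) = v + A k⁻¹ • v + A k • v := by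
    rw [smul_add, smul_add, smul_smul, smul_smul, ← map_mul, ← map_mul, mul_inv_cancel, map_one,
      one_smul, hkk]
    abel
  have hu' : u = v + A k⁻¹ • v + A k • v := by rw [hu, hcdk, ← hk]
  have hn1 : ¬ Commute (d * c * d) c := fun h => not_commute_conj hD.1 hc hcd (by rw [← hb]; exact h.symm)
  have hn2 : ¬ Commute d (d * c * d) := not_commute_conj hD.1 hd hdc
  have hu1 : ∀ f ∈ D, Commute f c → dlt A f • u = 0 := by
    intro f hf hfc
    have h := hfix c hc _ hwd hn1 _ e1 f hf hfc
    rw [r1, r2] at h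
    rw [hu']
    convert h using 2
    simp only [smul_smul, ← map_mul, hkk]
    rw [inv_mul_cancel, map_one, one_smul]
    abel
  have hu2 : ∀ f ∈ D, Commute f (d * c * d) → dlt A f • u = 0 := by
    intro f hf hfc
    have h := hfix _ hwd d hd hn2 _ e2 f hf hfc
    rw [r3, r4] at h
    rw [hu']
    convert h using 2
    simp only [smul_smul, ← map_mul, hkk]
    rw [show k⁻¹ * k⁻¹ = k by rw [← mul_inv_rev, hkk, inv_inv], mul_inv_cancel, map_one, one_smul]
    abel
  have hufix : ∀ y ∈ D, dlt A y • u = 0 := by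
    intro y hy
    by_cases h0 : Commute y d
    · exact hu0 y hy h0
    by_cases h1 : Commute y c
    · exact hu1 y hy h1
    by_cases h3 : Commute y (d * c * d)
    · exact hu2 y hy h3
    have H : Triangle D d c y := ⟨hd, hc, hy, hdc, h0, h1, h3⟩
    obtain ⟨hok, hot, hod, -⟩ := H.facts SD
    obtain ⟨o, ho⟩ : ∃ o, o = omega d c y := ⟨_, rfl⟩
    rw [← ho] at hok hot hod
    rw [← hk] at hok
    have hou : A o • u = u := by
      obtain ⟨m, hm⟩ := coset d hd v (hev.symm ▸ he) o hod
      have hcomm : ∀ g, Commute o g → A o • A g • v = A g • A o • v := fun g hg => by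
        rw [smul_smul, smul_smul, ← map_mul, ← map_mul, hg.eq]
      have hN : dlt A d • m + A (c * d) • dlt A d • m + A (d * c) • dlt A d • m = 0 := by
        have hzz : dlt A d • dlt A d • m = 0 := orthM d hd d hd (Commute.refl d) m
        rw [hA, norm_eq hsq s1 (hA ▸ hzz), ← hA, rho_eq h2 c, add_smul, one_smul, smul_add, hzz,
          add_zero, loopM c hc d hd hcd, addM]
      have : A o • u + u = 0 := by
        rw [← hN, ← hm, hu, smul_add, smul_add, hcomm _ (by rw [hcdk]; exact hok.inv_right),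
          hcomm _ (by rw [← hk]; exact hok), smul_add, smul_add]
        abel
      calc A o • u = A o • u + (u + u) := by rw [addM, add_zero]
        _ = u := by rw [← add_assoc, this, zero_add]
    obtain ⟨t, ht⟩ : ∃ t, t = y * d := ⟨_, rfl⟩
    rw [← ht] at hot
    have hyconj : t⁻¹ * d * t = y := by
      rw [ht, mul_inv_rev, inv_eq hD.1 hd, inv_eq hD.1 hy,
        show d * y * d * (y * d) = (d * y * d) * y * d by group,
        braid hD.1 hd hy (fun h => h0 h.symm)]
      simp only [mul_assoc, mul_cancel_left hD.1 hy, s1, mul_one]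
    have hkill : dlt A d • A t • u = 0 := H.kill h2 SD (by
      rw [← ho, smul_smul, ← map_mul, hot.eq, map_mul, mul_smul, hou])
    calc dlt A y • u = A t⁻¹ • dlt A d • A t • u := by
          have hc1 : A t⁻¹ • A t • u = u := by
            rw [smul_smul, ← map_mul, inv_mul_cancel, map_one, one_smul]
          rw [← hyconj, dlt, dlt, map_mul, map_mul, add_smul, add_smul, mul_smul, mul_smul,
            smul_add, one_smul, one_smul, hc1]
      _ = 0 := by rw [hkill, smul_zero]
  have hu00 : u = 0 := by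
    refine val_injective _ ?_
    rw [val_zero, ← Subgroup.mem_bot, ← hZ]
    refine Subgroup.mem_center_iff.2 fun g => ?_
    have hle : Subgroup.closure D ≤ Subgroup.centralizer {val _ u} := (Subgroup.closure_le _).2
      fun y hy => Subgroup.mem_centralizer_iff.2 (by
        rintro _ rfl
        have h := congrArg (val (pCore 2 G)) (hufix y hy)
        rw [hA, val_dlt, val_zero, mul_eq_one_iff_eq_inv,
          inv_eq_of_mul_eq_one_right (hsq _ (val_mem _ u)), mul_inv_eq_iff_eq_mul] at h
        exact h.symm)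
    exact ((Subgroup.mem_centralizer_iff.1 (hle (hD.2.2 ▸ Subgroup.mem_top g))) _ rfl).symm
  have hz : dlt A d • v = 0 := by
    refine val_injective _ ?_
    rw [hA, val_dlt, val_zero, inv_eq hD.1 hd]
    simpa [mul_assoc, hev] using sq hE.1 he
  have hrep : v = dlt A d • (A c • v) := by
    have h : v + dlt A d • (A c • v) = 0 := by
      have := norm_eq hsq (c := c) s1 (hA ▸ hz)
      rw [← hA, ← hu, hu00] at this
      exact this.symm
    calc v = v + (v + dlt A d • (A c • v)) := by rw [h, add_zero]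
      _ = _ := by rw [← add_assoc, addM, zero_add]
  rw [← hev, hrep, hA, val_dlt]
  set w := val (pCore 2 G) (act (pCore 2 G) c • v)
  rw [inv_eq hD.1 hd, show d * (d * w * d * w) = (d * d) * (w * d * w) by group, s1, one_mul]
  have := SD.conj w d hd
  rwa [inv_eq_of_mul_eq_one_right (hsq w (val_mem _ _))] at this

end CfsgLib.TwoTranspClasses
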