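import Cfsg.Agent.Transpositions.Basic

/-!
# 3-transpositions acting on a module of characteristic two

`dlt ρ x = ρ x + 1`. A set `T` of 3-transpositions acts as a system (`Sys`) when the operators of
commuting members annihilate each other and those of non-commuting members satisfy `b a b = b`.
Two generating systems of a group with trivial 2-core, acting faithfully, coincide
(`subset_of_two_systems`).
-/

set_option autoImplicit false

namespace CfsgLib.TwoTranspClasses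

open Cfsg CfsgLib.Transpositions

variable {Γ : Type*} [Group Γ] {R : Type*} [Ring R] {M : Type*} [AddCommGroup M] [Module R M]

/-- `ρ x + 1`. -/
def dlt (ρ : Γ →* R) (x : Γ) : R := ρ x + 1

/-- A conjugation invariant set of 3-transpositions with the two operator identities. -/
structure Sys (ρ : Γ →* R) (T : Set Γ) : Prop where
  set : IsThreeTranspositionSet T
  conj : ∀ g : Γ, ∀ x ∈ T, g * x * g⁻¹ ∈ T
  orth : ∀ c ∈ T, ∀ d ∈ T, Commute c d → dlt ρ c * dlt ρ d = 0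
  loop : ∀ c ∈ T, ∀ d ∈ T, ¬ Commute c d → dlt ρ d * dlt ρ c * dlt ρ d = dlt ρ d

section

variable {ρ : Γ →* R} {T : Set Γ} {c d : Γ}

theorem add_self_R (h2 : (1 : R) + 1 = 0) (x : R) : x + x = 0 := by
  have h := congrArg (fun y => x * y) h2
  simpa [mul_add] using h

theorem add_self_M (h2 : (1 : R) + 1 = 0) (m : M) : m + m = 0 := by
  have h := congrArg (fun y : R => y • m) h2
  simpa [add_smul] using h

theorem rho_eq (h2 : (1 : R) + 1 = 0) (x : Γ) : ρ x = dlt ρ x + 1 := by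
  rw [dlt, add_assoc, h2, add_zero]

theorem Sys.sq_zero (S : Sys ρ T) (hd : d ∈ T) : dlt ρ d * dlt ρ d = 0 :=
  S.orth d hd d hd (Commute.refl d)

theorem smul_inv_fixed {h : Γ} {w : M} (hw : ρ h • w = w) : ρ h⁻¹ • w = w := by
  conv_lhs => rw [← hw]
  rw [smul_smul, ← map_mul, inv_mul_cancel, map_one, one_smul]

/-- A member kills the fixed points of its product with a non-commuting member. -/
theorem Sys.kill (S : Sys ρ T) (hc : c ∈ T) (hd : d ∈ T) (h : ¬ Commute c d)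
    {w : M} (hw : ρ (d * c) • w = w) : dlt ρ d • w = 0 := by
  have e : ρ c • w = ρ d • w := by
    conv_rhs => rw [← hw]
    rw [smul_smul, ← map_mul, mul_cancel_left S.set hd]
  have e' : dlt ρ d • w = dlt ρ c • w := by
    simp only [dlt, add_smul, one_smul, e]
  rw [← S.loop c hc d hd h, mul_smul, e', mul_smul, smul_smul (dlt ρ c), S.sq_zero hc, zero_smul,
    smul_zero]

end

/-! ### The affine plane spanned by a triangle -/

/-- The commutator attached to a triangle. -/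
def omega (c₀ c x : Γ) : Γ := (c₀ * c)⁻¹ * (x * c₀)⁻¹ * (c₀ * c) * (x * c₀)

theorem exponent_three {a b : Γ} (ha : a ^ 3 = 1) (hb : b ^ 3 = 1) (h1 : (b * a) ^ 3 = 1)
    (h2 : (b * a⁻¹) ^ 3 = 1) :
    Commute (a⁻¹ * b⁻¹ * a * b) a ∧ Commute (a⁻¹ * b⁻¹ * a * b) b ∧
      (a⁻¹ * b⁻¹ * a * b) ^ 3 = 1 ∧
      a * b * a⁻¹ * b⁻¹ = a⁻¹ * b⁻¹ * a * b := by
  have ha' : a * a = a⁻¹ := by
    rw [eq_inv_iff_mul_eq_one, ← ha, pow_succ, pow_two]
  have hb' : b * b = b⁻¹ := by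
    rw [eq_inv_iff_mul_eq_one, ← hb, pow_succ, pow_two]
  have hb'' : b⁻¹ * b⁻¹ = b := by rw [← mul_inv_rev, hb', inv_inv]
  have e1 : a * b * a = b⁻¹ * a⁻¹ * b⁻¹ := by
    have h : b * (a * b * a) * b * a = 1 := by
      rw [← h1, pow_succ, pow_two]; simp only [mul_assoc]
    calc a * b * a = b⁻¹ * (b * (a * b * a) * b * a) * a⁻¹ * b⁻¹ := by group
      _ = b⁻¹ * a⁻¹ * b⁻¹ := by rw [h, mul_one]
  have e2 : a⁻¹ * b * a⁻¹ = b⁻¹ * a * b⁻¹ := by
    have h : b * (a⁻¹ * b * a⁻¹) * b * a⁻¹ = 1 := by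
      rw [← h2, pow_succ, pow_two]; simp only [mul_assoc]
    calc a⁻¹ * b * a⁻¹ = b⁻¹ * (b * (a⁻¹ * b * a⁻¹) * b * a⁻¹) * a * b⁻¹ := by group
      _ = b⁻¹ * a * b⁻¹ := by rw [h, mul_one]
  set u := b * a * b⁻¹ with hu
  have au : a * u = (b⁻¹ * a * b)⁻¹ := by
    rw [hu, show a * (b * a * b⁻¹) = (a * b * a) * b⁻¹ by group, e1,
      show b⁻¹ * a⁻¹ * b⁻¹ * b⁻¹ = b⁻¹ * a⁻¹ * (b⁻¹ * b⁻¹) by group, hb'']
    group
  have ua : u * a = (b⁻¹ * a * b)⁻¹ := by
    rw [hu, show b * a * b⁻¹ * a = b * (a⁻¹ * b * a⁻¹)⁻¹ by group, e2,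
      show b * (b⁻¹ * a * b⁻¹)⁻¹ = (b * b) * a⁻¹ * b by group, hb']
    group
  have hau : Commute a u := au.trans ua.symm
  have hw : a⁻¹ * b⁻¹ * a * b = a * u⁻¹ := by
    rw [show a⁻¹ * b⁻¹ * a * b = a⁻¹ * ((b⁻¹ * a * b)⁻¹)⁻¹ by group, ← au, mul_inv_rev,
      show a⁻¹ * (u⁻¹ * a⁻¹) = a⁻¹ * u⁻¹ * a⁻¹ by group, hau.inv_inv.eq, mul_assoc, ← mul_inv_rev,
      ha', inv_inv, hau.symm.inv_left.eq]
  have hwb : b * (a⁻¹ * b⁻¹ * a * b) * b⁻¹ = a * u⁻¹ := by
    rw [show b * (a⁻¹ * b⁻¹ * a * b) * b⁻¹ = (b * a * b⁻¹)⁻¹ * a by group, ← hu,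
      hau.symm.inv_left.eq]
  refine ⟨?_, ?_, ?_, ?_⟩
  · rw [hw]; exact (Commute.refl a).mul_left hau.symm.inv_left
  · have h := hwb.trans hw.symm
    exact (mul_inv_eq_iff_eq_mul.1 h).symm
  · rw [hw, hau.inv_right.mul_pow, inv_pow, ha, hu, conj_pow, ha]
    simp
  · rw [hw, hu]
    group

/-- Three pairwise non-commuting members, no one of which commutes with a third point. -/
structure Triangle (T : Set Γ) (c₀ c x : Γ) : Prop where
  mem₀ : c₀ ∈ T
  mem₁ : c ∈ T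
  mem₂ : x ∈ T
  n01 : ¬ Commute c₀ c
  n20 : ¬ Commute x c₀
  n21 : ¬ Commute x c
  n23 : ¬ Commute x (c₀ * c * c₀)

variable {ρ : Γ →* R} {T : Set Γ} {c₀ c x : Γ}

theorem Triangle.facts (S : Sys ρ T) (H : Triangle T c₀ c x) :
    Commute (omega c₀ c x) (c₀ * c) ∧ Commute (omega c₀ c x) (x * c₀) ∧
      Commute (omega c₀ c x) c₀ ∧ omega c₀ c x ^ 3 = 1 := by
  have hi0 := inv_eq S.set H.mem₀
  have hic := inv_eq S.set H.mem₁
  have hix := inv_eq S.set H.mem₂
  obtain ⟨h1, h2, h3, h4⟩ := exponent_three (a := c₀ * c) (b := x * c₀)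
    (cube_eq_one S.set H.mem₀ H.mem₁ H.n01) (cube_eq_one S.set H.mem₂ H.mem₀ H.n20)
    (by rw [show x * c₀ * (c₀ * c) = x * c by
          rw [mul_assoc, mul_cancel_left S.set H.mem₀]]
        exact cube_eq_one S.set H.mem₂ H.mem₁ H.n21)
    (by rw [mul_inv_rev, hi0, hic, show x * c₀ * (c * c₀) = x * (c₀ * c * c₀) by group]
        exact cube_eq_one S.set H.mem₂
          (conj_mem_of_mem S.set S.conj H.mem₀ H.mem₁) H.n23)
  refine ⟨h1, h2, ?_, h3⟩
  have ec : c₀ * (c₀ * c) * c₀⁻¹ = (c₀ * c)⁻¹ := by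
    rw [mul_inv_rev, hi0, hic, mul_cancel_left S.set H.mem₀]
  have et : c₀ * (x * c₀) * c₀⁻¹ = (x * c₀)⁻¹ := by
    rw [mul_inv_rev, hi0, hix, mul_assoc, mul_assoc, sq S.set H.mem₀, mul_one]
  have ew : c₀ * omega c₀ c x * c₀⁻¹ = omega c₀ c x := by
    unfold omega
    rw [show c₀ * ((c₀ * c)⁻¹ * (x * c₀)⁻¹ * (c₀ * c) * (x * c₀)) * c₀⁻¹
        = (c₀ * (c₀ * c) * c₀⁻¹)⁻¹ * (c₀ * (x * c₀) * c₀⁻¹)⁻¹ * (c₀ * (c₀ * c) * c₀⁻¹)
          * (c₀ * (x * c₀) * c₀⁻¹) by group, ec, et, inv_inv, inv_inv]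
    exact h4
  exact (mul_inv_eq_iff_eq_mul.1 ew).symm

/-- In an affine plane, a member kills the fixed points of the central element. -/
theorem Triangle.kill (h2 : (1 : R) + 1 = 0) (S : Sys ρ T) (H : Triangle T c₀ c x) {w : M}
    (hw : ρ (omega c₀ c x) • w = w) : dlt ρ c₀ • w = 0 := by
  obtain ⟨hg, ht, -, -⟩ := H.facts S
  obtain ⟨g, hgdef⟩ : ∃ g, g = c₀ * c := ⟨_, rfl⟩
  obtain ⟨t, htdef⟩ : ∃ t, t = x * c₀ := ⟨_, rfl⟩
  obtain ⟨o, hodef⟩ : ∃ o, o = omega c₀ c x := ⟨_, rfl⟩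
  rw [← hgdef, ← hodef] at hg
  rw [← htdef, ← hodef] at ht
  rw [← hodef] at hw
  have hgt : g * t = t * g * o := by rw [hodef, omega, ← hgdef, ← htdef]; group
  have stab : ∀ h, Commute o h → ∀ z : M, ρ o • z = z → ρ o • ρ h • z = ρ h • z := by
    intro h hh z hz
    rw [smul_smul, ← map_mul, hh.eq, map_mul, mul_smul, hz]
  have rule : ∀ z : M, ρ o • z = z → ρ g • ρ t • z = ρ t • ρ g • z := by
    intro z hz
    rw [smul_smul, ← map_mul, hgt, map_mul, mul_smul, hz, map_mul, mul_smul]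
  have rule' : ∀ z : M, ρ o • z = z → ρ g⁻¹ • ρ t • z = ρ t • ρ g⁻¹ • z := by
    intro z hz
    have h := congrArg (fun y => ρ g⁻¹ • y) (rule _ (stab g⁻¹ hg.inv_right z hz))
    simp only [smul_smul, ← map_mul, inv_mul_cancel_left, mul_inv_cancel, mul_one] at h
    rw [smul_smul, smul_smul, ← map_mul, ← map_mul]
    exact h.symm
  have hg3 : g ^ 3 = 1 := hgdef ▸ cube_eq_one S.set H.mem₀ H.mem₁ H.n01
  have ht3 : t ^ 3 = 1 := htdef ▸ cube_eq_one S.set H.mem₂ H.mem₀ H.n20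
  have hgg : g * g = g⁻¹ := by rw [eq_inv_iff_mul_eq_one, ← hg3, pow_succ, pow_two]
  have hc'g : g⁻¹ * c * g = c₀ := by
    rw [hgdef, mul_inv_rev, inv_eq S.set H.mem₀, inv_eq S.set H.mem₁,
      show c * c₀ * c * (c₀ * c) = c * (c₀ * c * c₀) * c by group,
      braid S.set H.mem₀ H.mem₁ H.n01,
      show c * (c * c₀ * c) * c = (c * c) * c₀ * (c * c) by group, sq S.set H.mem₁, one_mul, mul_one]
  have hc'' : c₀ * c * c₀ = g * c * g⁻¹ := by
    rw [hgdef, mul_inv_rev, inv_eq S.set H.mem₀, inv_eq S.set H.mem₁,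
      show c₀ * c * c * (c * c₀) = c₀ * (c * c) * c * c₀ by group, sq S.set H.mem₁, mul_one]
  -- fixed points of the four subgroups are killed
  have kt : ∀ z : M, ρ t • z = z → dlt ρ c₀ • z = 0 := fun z hz =>
    S.kill H.mem₂ H.mem₀ H.n20 (by
      have := smul_inv_fixed hz
      rwa [htdef, mul_inv_rev, inv_eq S.set H.mem₀, inv_eq S.set H.mem₂] at this)
  have kg : ∀ z : M, ρ g • z = z → dlt ρ c₀ • z = 0 := fun z hz =>
    S.kill H.mem₁ H.mem₀ (fun h => H.n01 h.symm) (by rwa [← hgdef])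
  have kq : ∀ z : M, ρ o • z = z → ρ t • ρ g • z = z → dlt ρ c₀ • z = 0 := by
    intro z hoz hz
    refine S.kill (c := g⁻¹ * x * g) (by simpa using S.conj g⁻¹ x H.mem₂) H.mem₀ ?_ ?_
    · intro h
      refine H.n21 ((commute_conj_iff g⁻¹ x c).1 ?_)
      rw [inv_inv, hc'g]
      exact h
    · have e : g⁻¹ * x * g * c₀ = g⁻¹ * (t * g) * g := by
        rw [show g⁻¹ * x * g * c₀ = g⁻¹ * x * g * (g⁻¹ * c * g) by rw [hc'g],
          htdef, hgdef, mul_assoc x, mul_cancel_left S.set H.mem₀]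
        group
      have hfix : ρ (g⁻¹ * x * g * c₀) • z = z := by
        rw [e, map_mul, mul_smul, map_mul, mul_smul, map_mul, mul_smul,
          ← rule _ (stab g hg z hoz), hz, smul_smul, ← map_mul, inv_mul_cancel, map_one, one_smul]
      have := smul_inv_fixed hfix
      rwa [mul_inv_rev, inv_eq S.set H.mem₀,
        inv_eq S.set (by simpa using S.conj g⁻¹ x H.mem₂ : g⁻¹ * x * g ∈ T)] at this
  have kq' : ∀ z : M, ρ o • z = z → ρ t • ρ g⁻¹ • z = z → dlt ρ c₀ • z = 0 := by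
    intro z hoz hz
    have hgc : g * (c₀ * c * c₀) * g⁻¹ = c₀ := by
      rw [hc'', show g * (g * c * g⁻¹) * g⁻¹ = (g * g) * c * (g * g)⁻¹ by group, hgg, inv_inv, hc'g]
    refine S.kill (c := g * x * g⁻¹) (S.conj g x H.mem₂) H.mem₀ ?_ ?_
    · intro h
      refine H.n23 ((commute_conj_iff g x _).1 ?_)
      rw [hgc]
      exact h
    · have e : g * x * g⁻¹ * c₀ = g * (t * g⁻¹) * g⁻¹ := by
        rw [show g * x * g⁻¹ * c₀ = g * x * g⁻¹ * (g * (c₀ * c * c₀) * g⁻¹) by rw [hgc],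
          show g * x * g⁻¹ * (g * (c₀ * c * c₀) * g⁻¹) = g * (x * (c₀ * c * c₀)) * g⁻¹ by group]
        congr 2
        rw [htdef, hgdef, mul_inv_rev, inv_eq S.set H.mem₁, inv_eq S.set H.mem₀]
        simp only [mul_assoc]
      have hfix : ρ (g * x * g⁻¹ * c₀) • z = z := by
        rw [e, map_mul, mul_smul, map_mul, mul_smul, map_mul, mul_smul,
          ← rule' _ (stab g⁻¹ hg.inv_right z hoz), hz, smul_smul, ← map_mul, mul_inv_cancel,
          map_one, one_smul]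
      have := smul_inv_fixed hfix
      rwa [mul_inv_rev, inv_eq S.set H.mem₀, inv_eq S.set (S.conj g x H.mem₂)] at this
  -- the partition of the identity
  set A : M → M := fun z => ρ g • z with hA
  set B : M → M := fun z => ρ t • z with hB
  have sA : ∀ z : M, ρ o • z = z → ρ o • A z = A z := stab g hg
  have sB : ∀ z : M, ρ o • z = z → ρ o • B z = B z := stab t ht
  have A3 : ∀ z : M, A (A (A z)) = z := fun z => by
    simp only [hA, smul_smul, ← map_mul]
    rw [show g * (g * g) = g ^ 3 by rw [pow_succ', pow_two], hg3, map_one, one_smul]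
  have B3 : ∀ z : M, B (B (B z)) = z := fun z => by
    simp only [hB, smul_smul, ← map_mul]
    rw [show t * (t * t) = t ^ 3 by rw [pow_succ', pow_two], ht3, map_one, one_smul]
  have hAinv : ∀ z : M, ρ g⁻¹ • z = A (A z) := fun z => by
    simp only [hA, smul_smul, ← map_mul, hgg]
  have aA : ∀ u v : M, A (u + v) = A u + A v := fun u v => smul_add _ u v
  have aB : ∀ u v : M, B (u + v) = B u + B v := fun u v => smul_add _ u v
  have com : ∀ z : M, ρ o • z = z → A (B z) = B (A z) := rule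
  have com2 : ∀ z : M, ρ o • z = z → A (A (B z)) = B (A (A z)) := fun z hz => by
    rw [com z hz, com _ (sA z hz)]
  have stAdd : ∀ u v : M, ρ o • u = u → ρ o • v = v → ρ o • (u + v) = u + v :=
    fun u v hu hv => by rw [smul_add, hu, hv]
  have o1 := sA w hw
  have o2 := sA _ o1
  -- a B-invariant sum
  have z5 : dlt ρ c₀ • (w + A w + A (A w) + (B w + B (A w) + B (A (A w)))
      + (B (B w) + B (B (A w)) + B (B (A (A w))))) = 0 :=
    kt _ (show B _ = _ by simp only [aB, B3]; abel)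
  have z1 : dlt ρ c₀ • (w + A w + A (A w)) = 0 := kg _ (show A _ = _ by simp only [aA, A3]; abel)
  have z2 : dlt ρ c₀ • (w + B w + B (B w)) = 0 := kt _ (show B _ = _ by simp only [aB, B3]; abel)
  have z3 : dlt ρ c₀ • (w + B (A w) + B (B (A (A w)))) = 0 := by
    refine kq _ (stAdd _ _ (stAdd _ _ hw (sB _ o1)) (sB _ (sB _ o2))) ?_
    show B (A _) = _
    simp only [aA, aB]
    rw [com _ o1, com _ (sB _ o2), com _ o2, A3, B3]
    abel
  have z4 : dlt ρ c₀ • (w + B (A (A w)) + B (B (A w))) = 0 := by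
    refine kq' _ (stAdd _ _ (stAdd _ _ hw (sB _ o2)) (sB _ (sB _ o1))) ?_
    rw [hAinv]
    show B (A (A _)) = _
    simp only [aA, aB]
    rw [com2 _ o2, com2 _ (sB _ o1), com2 _ o1, A3, A3, B3]
    abel
  have hsum : (w + A w + A (A w)) + (w + B w + B (B w)) + (w + B (A w) + B (B (A (A w))))
      + (w + B (A (A w)) + B (B (A w))) + (w + A w + A (A w) + (B w + B (A w) + B (A (A w)))
      + (B (B w) + B (B (A w)) + B (B (A (A w))))) = w := by
    calc _ = w + ((w + w + A w + A (A w) + B w + B (B w) + B (A w) + B (B (A (A w))) + B (A (A w))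
          + B (B (A w))) + (w + w + A w + A (A w) + B w + B (B w) + B (A w) + B (B (A (A w)))
          + B (A (A w)) + B (B (A w)))) := by abel
      _ = w := by rw [add_self_M h2, add_zero]
  rw [← hsum, smul_add, smul_add, smul_add, smul_add, z1, z2, z3, z4, z5]
  simp

end CfsgLib.TwoTranspClasses
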