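import Cfsg.Agent.TwoTranspClasses.Basic

/-!
# Two systems of 3-transpositions in one linear group coincide
-/

set_option autoImplicit false

namespace CfsgLib.TwoTranspClasses

open Cfsg CfsgLib.Transpositions

variable {Γ : Type*} [Group Γ] {R : Type*} [Ring R] {ρ : Γ →* R} {T U : Set Γ}

/-- Different members have different sets of commuting members. -/
def Sep (T : Set Γ) : Prop := ∀ f ∈ T, ∀ d ∈ T, f ≠ d → ∃ h ∈ T, Commute h f ∧ ¬ Commute h d

theorem eq_one_of_dlt (h2 : (1 : R) + 1 = 0) (hρ : Function.Injective ρ) {x : Γ}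
    (h : dlt ρ x = 0) : x = 1 := hρ (by rw [rho_eq h2 x, h, zero_add, map_one])

/-- A member of `U` does not move a member of `T` to a different commuting one. -/
theorem eq_of_commute_image (h2 : (1 : R) + 1 = 0) (hρ : Function.Injective ρ) (ST : Sys ρ T)
    (SU : Sys ρ U) (hsep : Sep T) {d e : Γ} (hd : d ∈ T) (he : e ∈ U)
    (hc : Commute d (e * d * e)) : e * d * e = d := by
  by_contra hne
  have hee := sq SU.set he
  have hdd := sq ST.set hd
  have hd' : e * d * e ∈ T := by simpa [inv_eq SU.set he] using ST.conj e d hd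
  have he' : d * e * d ∈ U := by simpa [inv_eq ST.set hd] using SU.conj d e he
  have hec : Commute e (d * e * d) := by
    have h : e * (d * e * d) * ((d * e * d) * e)⁻¹ = 1 := by
      rw [show e * (d * e * d) * ((d * e * d) * e)⁻¹
          = (e * d * e) * d * (e⁻¹ * d⁻¹ * e⁻¹) * d⁻¹ by group,
        inv_eq SU.set he, inv_eq ST.set hd, ← hc.eq,
        show d * (e * d * e) * (e * d * e) * d = d * (e * d * (e * e) * d * e) * d by group,
        hee, mul_one, show e * d * d * e = e * (d * d) * e by group, hdd, mul_one, hee, mul_one,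
        hdd]
    exact mul_inv_eq_one.1 h
  obtain ⟨c, hcT, hcd', hcd⟩ := hsep _ hd' d hd hne
  obtain ⟨a, ha⟩ : ∃ a, a = dlt ρ d := ⟨_, rfl⟩
  obtain ⟨b, hb⟩ : ∃ b, b = dlt ρ e := ⟨_, rfl⟩
  obtain ⟨γ, hγ⟩ : ∃ γ, γ = dlt ρ c := ⟨_, rfl⟩
  have addR := add_self_R h2
  have ea : dlt ρ (e * d * e) = a + a * b + b * a + b * a * b := by
    rw [dlt, map_mul, map_mul, rho_eq h2 d, rho_eq h2 e, ← ha, ← hb]
    calc (b + 1) * (a + 1) * (b + 1) + 1
        = (a + a * b + b * a + b * a * b) + (b * b + (b + b) + (1 + 1)) := by noncomm_ring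
      _ = _ := by rw [hb, SU.sq_zero he, addR, h2, add_zero, add_zero, add_zero]
  have eb : dlt ρ (d * e * d) = b + b * a + a * b + a * b * a := by
    rw [dlt, map_mul, map_mul, rho_eq h2 d, rho_eq h2 e, ← ha, ← hb]
    calc (a + 1) * (b + 1) * (a + 1) + 1
        = (b + b * a + a * b + a * b * a) + (a * a + (a + a) + (1 + 1)) := by noncomm_ring
      _ = _ := by rw [ha, ST.sq_zero hd, addR, h2, add_zero, add_zero, add_zero]
  have hb0 : b * b = 0 := hb ▸ SU.sq_zero he
  have ha0 : a * a = 0 := ha ▸ ST.sq_zero hd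
  have hbab : b * a * b = 0 := by
    have h : b * (b + b * a + a * b + a * b * a) = 0 := by
      rw [← eb, hb]; exact SU.orth _ he _ he' hec
    have h' : b * a * b + b * a * b * a = 0 := by
      rw [mul_add, mul_add, mul_add, ← mul_assoc b b a, hb0, zero_mul, zero_add, zero_add,
        ← mul_assoc, ← mul_assoc, ← mul_assoc] at h
      exact h
    calc b * a * b = b * a * b + (b * a * b * a + b * a * b * a) + b * a * b * (a * a) := by
          rw [addR, ha0, mul_zero, add_zero, add_zero]
      _ = (b * a * b + b * a * b * a) * (1 + a) := by noncomm_ring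
      _ = 0 := by rw [h', zero_mul]
  rw [hbab, add_zero] at ea
  have haca : a * γ * a = a := by rw [ha, hγ]; exact ST.loop c hcT d hd hcd
  have o1 : (a + a * b + b * a) * γ = 0 := by
    rw [← ea, hγ]; exact ST.orth _ hd' c hcT hcd'.symm
  have o2 : γ * (a + a * b + b * a) = 0 := by
    rw [← ea, hγ]; exact ST.orth c hcT _ hd' hcd'
  have hba : b * a = 0 := by
    have h : a + a * b * γ * a + b * a = 0 := by
      calc a + a * b * γ * a + b * a = a * γ * a + a * b * γ * a + b * (a * γ * a) := by rw [haca]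
        _ = (a + a * b + b * a) * γ * a := by noncomm_ring
        _ = 0 := by rw [o1, zero_mul]
    calc b * a = b * a + (b * a * b) * (γ * a) + (b * b) * a := by
          rw [hbab, hb0, zero_mul, zero_mul, add_zero, add_zero]
      _ = b * (a + a * b * γ * a + b * a) := by noncomm_ring
      _ = 0 := by rw [h, mul_zero]
  have hab : a * b = 0 := by
    have h : a + a * b + a * γ * b * a = 0 := by
      calc a + a * b + a * γ * b * a = a * γ * a + (a * γ * a) * b + a * γ * b * a := by rw [haca]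
        _ = a * (γ * (a + a * b + b * a)) := by noncomm_ring
        _ = 0 := by rw [o2, mul_zero]
    calc a * b = a * b + a * (b * b) + (a * γ) * (b * a * b) := by
          rw [hbab, hb0, mul_zero, mul_zero, add_zero, add_zero]
      _ = (a + a * b + a * γ * b * a) * b := by noncomm_ring
      _ = 0 := by rw [h, zero_mul]
  have hde : d * e = e * d := hρ (by
    rw [map_mul, map_mul, rho_eq h2 d, rho_eq h2 e, ← ha, ← hb]
    calc (a + 1) * (b + 1) = a * b + a + b + 1 := by noncomm_ring
      _ = b * a + a + b + 1 := by rw [hab, hba]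
      _ = (b + 1) * (a + 1) := by noncomm_ring)
  exact hne (by rw [← hde, mul_assoc, hee, mul_one])

/-- If a member of `U` swaps `c` and `c₀ c c₀` and fixes `c₀`, it moves every member not commuting
with `c₀`. -/
theorem not_fixed (h2 : (1 : R) + 1 = 0) (hρ : Function.Injective ρ) (ST : Sys ρ T)
    (SU : Sys ρ U) (_hsep : Sep T) {e c₀ c x : Γ} (he : e ∈ U) (hc0 : c₀ ∈ T) (hc : c ∈ T)
    (hx : x ∈ T) (hcc : ¬ Commute c₀ c) (hxc : ¬ Commute x c₀) (hec0 : e * c₀ * e = c₀)
    (hec : e * c * e = c₀ * c * c₀) : e * x * e ≠ x := by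
  intro hex
  have hee := sq SU.set he
  have hei := inv_eq SU.set he
  have himg : ∀ y, Commute x y → Commute x (e * y * e) := fun y hy => by
    have h := (commute_conj_iff e x y).2 hy
    rwa [hei, hex] at h
  have n21 : ¬ Commute x c := fun h => by
    have h' := himg c h
    rw [hec] at h'
    refine hxc ?_
    have hb : c * (c₀ * c * c₀) * c = c₀ := by
      rw [braid ST.set hc0 hc hcc,
        show c * (c * c₀ * c) * c = (c * c) * c₀ * (c * c) by group, sq ST.set hc, one_mul, mul_one]
    rw [← hb]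
    exact (h.mul_right h').mul_right h
  have n23 : ¬ Commute x (c₀ * c * c₀) := fun h => n21 (by
    have h' := himg _ h
    rwa [← hec, show e * (e * c * e) * e = (e * e) * c * (e * e) by group, hee, one_mul,
      mul_one] at h')
  have H : Triangle T c₀ c x := ⟨hc0, hc, hx, hcc, hxc, n21, n23⟩
  obtain ⟨hog, hot, -, ho3⟩ := H.facts ST
  obtain ⟨g, hgdef⟩ : ∃ g, g = c₀ * c := ⟨_, rfl⟩
  obtain ⟨t, htdef⟩ : ∃ t, t = x * c₀ := ⟨_, rfl⟩
  obtain ⟨o, hodef⟩ : ∃ o, o = omega c₀ c x := ⟨_, rfl⟩
  rw [← hgdef, ← hodef] at hog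
  rw [← htdef, ← hodef] at hot
  rw [← hodef] at ho3
  have hg3 : g ^ 3 = 1 := hgdef ▸ cube_eq_one ST.set hc0 hc hcc
  have hgg : g * g = g⁻¹ := by rw [eq_inv_iff_mul_eq_one, ← hg3, pow_succ, pow_two]
  have heg : e * g * e = g⁻¹ := by
    rw [hgdef, show e * (c₀ * c) * e = (e * c₀ * (e * e) * c * e) by rw [hee, mul_one]; group,
      show e * c₀ * (e * e) * c * e = (e * c₀ * e) * (e * c * e) by group, hec0, hec,
      mul_assoc c₀ c c₀, mul_cancel_left ST.set hc0, mul_inv_rev, inv_eq ST.set hc,
      inv_eq ST.set hc0]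
  have het : e * t * e = t := by
    rw [htdef, show e * (x * c₀) * e = (e * x * (e * e) * c₀ * e) by rw [hee, mul_one]; group,
      show e * x * (e * e) * c₀ * e = (e * x * e) * (e * c₀ * e) by group, hec0, hex]
  have hconjmul : ∀ y z, e * (y * z) * e = (e * y * e) * (e * z * e) := fun y z => by
    rw [show e * y * e * (e * z * e) = e * y * (e * e) * z * e by group, hee, mul_one]
    group
  have hge : g * e = e * g⁻¹ := by
    rw [← heg, ← mul_assoc, ← mul_assoc, hee, one_mul]
  have hg1 : g ≠ 1 := fun h => hcc (((mul_eq_one_iff ST.set hc).1 (hgdef ▸ h)) ▸ Commute.refl c₀)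
  -- `e` kills the fixed points of `g`
  have he' : g * e * g⁻¹ ∈ U := SU.conj g e he
  have hprod : e * (g * e * g⁻¹) = g := by
    rw [show e * (g * e * g⁻¹) = (e * g * e) * g⁻¹ by group, heg, ← mul_inv_rev, hgg, inv_inv]
  have hnc : ¬ Commute (g * e * g⁻¹) e := fun h => hg1 (by
    have := (commute_iff_sq_eq_one SU.set he he').1 h.symm
    rw [hprod] at this
    rw [← hg3, pow_succ, this, one_mul])
  have killU : ∀ z : R, ρ g • z = z → dlt ρ e • z = 0 := fun z hz =>
    SU.kill he' he hnc (by rwa [hprod])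
  -- hence so does `o + 1`
  have hN : ρ g • (1 + ρ g + ρ g * ρ g) = 1 + ρ g + ρ g * ρ g := by
    have h3 : ρ g * (ρ g * ρ g) = 1 := by rw [← map_mul, ← map_mul, ← pow_two, ← pow_succ', hg3, map_one]
    rw [smul_eq_mul, mul_add, mul_add, mul_one, h3]; abel
  obtain ⟨N, hNdef⟩ : ∃ N, N = 1 + ρ g + ρ g * ρ g := ⟨_, rfl⟩
  rw [← hNdef, smul_eq_mul] at hN
  have fixe : ∀ z : R, ρ g * z = z → ρ e * z = z := fun z hz => by
    have h := killU z hz
    rw [smul_eq_mul] at h
    rw [rho_eq h2 e, add_mul, h, zero_add, one_mul]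
  have hoe : e * o * e = o⁻¹ := by
    have hom : o = g⁻¹ * t⁻¹ * g * t := by rw [hodef, omega, ← hgdef, ← htdef]
    have hti : e * t⁻¹ * e = t⁻¹ := by
      conv_rhs => rw [← het]
      simp [hei, mul_assoc]
    have hgi : e * g⁻¹ * e = g := by
      conv_rhs => rw [← inv_inv g, ← heg]
      simp [hei, mul_assoc]
    have hgo : g * o * g⁻¹ = o := by rw [← hog.eq, mul_inv_cancel_right]
    rw [hom, hconjmul, hconjmul, hconjmul, hgi, hti, heg, het]
    calc g * t⁻¹ * g⁻¹ * t = (g * o * g⁻¹)⁻¹ := by rw [hom]; group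
      _ = o⁻¹ := by rw [hgo]
      _ = _ := by rw [hom]
  have hoN : ρ o * N = N := by
    have hoz : ρ g * (ρ o * N) = ρ o * N := by
      rw [← mul_assoc, ← map_mul, ← hog.eq, map_mul, mul_assoc, hN]
    have h1 : ρ o⁻¹ * N = ρ o * N := by
      rw [← hoe, map_mul, map_mul, mul_assoc, fixe _ hN, mul_assoc]
      exact fixe _ hoz
    calc ρ o * N = ρ (o ^ 3) * (ρ o⁻¹ * (ρ o⁻¹ * N)) := by
          rw [← mul_assoc (ρ o⁻¹), ← map_mul, ← mul_assoc, ← map_mul]
          congr 2; group
      _ = ρ o⁻¹ * (ρ o * N) := by rw [ho3, map_one, one_mul, h1]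
      _ = N := by rw [← mul_assoc, ← map_mul, inv_mul_cancel, map_one, one_mul]
  -- the operator algebra
  obtain ⟨O, hO⟩ : ∃ O, O = ρ o := ⟨_, rfl⟩
  obtain ⟨Gm, hG⟩ : ∃ Gm, Gm = ρ g := ⟨_, rfl⟩
  rw [← hG] at hNdef
  rw [← hO] at hoN
  have hOG : O * Gm = Gm * O := by rw [hO, hG, ← map_mul, ← map_mul, hog.eq]
  have hO3 : O * (O * O) = 1 := by rw [hO, ← map_mul, ← map_mul, ← pow_two, ← pow_succ', ho3, map_one]
  have hG3 : Gm * (Gm * Gm) = 1 := by rw [hG, ← map_mul, ← map_mul, ← pow_two, ← pow_succ', hg3, map_one]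
  have addR := add_self_R h2
  obtain ⟨q, hq⟩ : ∃ q, q = O + 1 := ⟨_, rfl⟩
  have hqG : q * Gm = Gm * q := by rw [hq, add_mul, mul_add, hOG, one_mul, mul_one]
  have hqO : q * O = O * q := by rw [hq, add_mul, mul_add, one_mul, mul_one]
  have hqN : q * N = 0 := by rw [hq, add_mul, hoN, one_mul, addR]
  -- the conjugate of `g` by `t` is `g * o`
  have hqV : q * (1 + Gm * O + Gm * O * (Gm * O)) = 0 := by
    have hv : t⁻¹ * g * t = g * o := by rw [hodef, omega, ← hgdef, ← htdef]; group
    have hct : ρ t⁻¹ * q = q * ρ t⁻¹ := by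
      rw [hq, mul_add, add_mul, hO, ← map_mul, ← map_mul, hot.inv_right.eq, mul_one, one_mul]
    have hit : ρ t⁻¹ * ρ t = 1 := by rw [← map_mul, inv_mul_cancel, map_one]
    have hit' : ρ t * ρ t⁻¹ = 1 := by rw [← map_mul, mul_inv_cancel, map_one]
    have hg' : Gm * O = ρ t⁻¹ * Gm * ρ t := by
      rw [hG, hO, ← map_mul, ← map_mul, ← map_mul, hv]
    calc q * (1 + Gm * O + Gm * O * (Gm * O))
        = q * (ρ t⁻¹ * (1 + Gm + Gm * Gm) * ρ t) := by
          rw [hg', show ρ t⁻¹ * Gm * ρ t * (ρ t⁻¹ * Gm * ρ t)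
              = ρ t⁻¹ * (Gm * (ρ t * ρ t⁻¹) * Gm) * ρ t by noncomm_ring, hit', mul_one,
            show ρ t⁻¹ * (1 + Gm + Gm * Gm) * ρ t
              = ρ t⁻¹ * ρ t + ρ t⁻¹ * Gm * ρ t + ρ t⁻¹ * (Gm * Gm) * ρ t by noncomm_ring, hit]
      _ = ρ t⁻¹ * (q * (1 + Gm + Gm * Gm)) * ρ t := by
          rw [← mul_assoc, ← mul_assoc, ← hct, mul_assoc (ρ t⁻¹)]
      _ = 0 := by rw [← hNdef, hqN, mul_zero, zero_mul]
  have hq2 : q * q = Gm * O * q := by
    have hGG : Gm * O * (Gm * O) = Gm * Gm * (O * O) := by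
      rw [mul_assoc, ← mul_assoc O, hOG]; noncomm_ring
    have hq3 : q * (q * q) = O * q := by
      rw [hq]
      calc (O + 1) * ((O + 1) * (O + 1))
          = O * (O * O) + (O * O + O) + (O * O + O) + (O * O + O) + 1 := by noncomm_ring
        _ = (O * O + O) := by
          rw [hO3, add_assoc (1 : R), addR, add_zero, add_comm (1 : R), add_assoc, h2, add_zero]
        _ = _ := by noncomm_ring
    have hqq : q * q = 1 + O * O := by
      rw [hq]
      calc (O + 1) * (O + 1) = 1 + O * O + (O + O) := by noncomm_ring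
        _ = _ := by rw [addR, add_zero]
    have h : Gm * (q * q) + Gm * Gm * (O * q) = 0 := by
      calc Gm * (q * q) + Gm * Gm * (O * q)
          = Gm * (q * q) + Gm * Gm * (q * (q * q)) := by rw [hq3]
        _ = (Gm * q) * (1 + O) + (Gm * Gm * q) * (1 + O * O) := by
            rw [← hqq, show (1 : R) + O = q by rw [hq, add_comm]]; noncomm_ring
        _ = (q * Gm) * (1 + O) + (q * (Gm * Gm)) * (1 + O * O) := by
            rw [← mul_assoc q Gm Gm, hqG, mul_assoc Gm q Gm, hqG, ← mul_assoc Gm Gm q]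
        _ = q * (1 + Gm + Gm * Gm) + q * (1 + Gm * O + Gm * Gm * (O * O)) + (q + q) := by
            rw [addR, add_zero]
            calc _ = q * Gm + q * (Gm * Gm) + q * (Gm * O) + q * (Gm * Gm * (O * O)) + 0 := by
                  noncomm_ring
              _ = _ := by rw [← addR q]; noncomm_ring
        _ = 0 := by rw [← hNdef, hqN, ← hGG, hqV, zero_add, zero_add, addR]
    calc q * q = (Gm * (Gm * Gm)) * (q * q) := by rw [hG3, one_mul]
      _ = (Gm * Gm) * (Gm * (q * q) + Gm * Gm * (O * q)) + Gm * (Gm * (Gm * Gm)) * (O * q) := by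
          calc _ = (Gm * (Gm * Gm)) * (q * q) + (Gm * (Gm * (Gm * Gm)) * (O * q)
                + Gm * (Gm * (Gm * Gm)) * (O * q)) := by rw [addR, add_zero]
            _ = _ := by noncomm_ring
      _ = Gm * O * q := by rw [h, mul_zero, zero_add, hG3, mul_one, mul_assoc]
  have hq0 : q = 0 := by
    -- conjugate the last identity by `t`
    have hct : ∀ y, Commute (ρ t⁻¹) y → ρ t⁻¹ * y * ρ t = y := fun y hy => by
      rw [hy.eq, mul_assoc, ← map_mul, inv_mul_cancel, map_one, mul_one]
    have hcO : Commute (ρ t⁻¹) O := by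
      show ρ t⁻¹ * O = O * ρ t⁻¹
      rw [hO, ← map_mul, ← map_mul, hot.inv_right.eq]
    have hcq : Commute (ρ t⁻¹) q := hq ▸ hcO.add_right (Commute.one_right _)
    have h : q * q = Gm * O * O * q := by
      calc q * q = ρ t⁻¹ * (q * q) * ρ t := (hct _ (hcq.mul_right hcq)).symm
        _ = (ρ t⁻¹ * Gm * ρ t) * (ρ t⁻¹ * (O * q) * ρ t) := by
          rw [hq2, show ρ t⁻¹ * Gm * ρ t * (ρ t⁻¹ * (O * q) * ρ t)
            = ρ t⁻¹ * Gm * (ρ t * ρ t⁻¹) * (O * q) * ρ t by noncomm_ring,
            ← map_mul ρ t, mul_inv_cancel, map_one, mul_one]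
          noncomm_ring
        _ = Gm * O * O * q := by
          rw [hct _ (hcO.mul_right hcq), show ρ t⁻¹ * Gm * ρ t = Gm * O by
            rw [hG, hO, ← map_mul, ← map_mul, ← map_mul]
            congr 1
            rw [hodef, omega, ← hgdef, ← htdef]; group]
          noncomm_ring
    have hzero : q * q = 0 := by
      have hz : Gm * O * (q * q) = 0 := by
        calc Gm * O * (q * q) = Gm * O * q + Gm * O * O * q := by
              conv_lhs => rw [show q * q = (1 + O) * q by rw [hq]; noncomm_ring]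
              noncomm_ring
          _ = 0 := by rw [← hq2, ← h, addR]
      calc q * q = (O * (O * O)) * ((Gm * (Gm * Gm)) * (q * q)) := by
            rw [hO3, hG3, one_mul, one_mul]
        _ = (O * O) * (Gm * Gm) * (Gm * O * (q * q)) := by
            have hc : Commute O Gm := hOG
            rw [show O * (O * O) * (Gm * (Gm * Gm) * (q * q))
              = O * O * (O * (Gm * Gm)) * Gm * (q * q) by noncomm_ring,
              (hc.mul_right hc).eq]
            rw [show O * O * (Gm * Gm * O) * Gm * (q * q)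
              = O * O * (Gm * Gm) * (O * Gm) * (q * q) by noncomm_ring, hc.eq]
            noncomm_ring
        _ = 0 := by rw [hz, mul_zero]
    calc q = (O * (O * O)) * ((Gm * (Gm * Gm)) * q) := by rw [hO3, hG3, one_mul, one_mul]
      _ = (O * O) * (Gm * Gm) * (Gm * O * q) := by
          have hc : Commute O Gm := hOG
          rw [show O * (O * O) * (Gm * (Gm * Gm) * q)
            = O * O * (O * (Gm * Gm)) * Gm * q by noncomm_ring, (hc.mul_right hc).eq,
            show O * O * (Gm * Gm * O) * Gm * q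
              = O * O * (Gm * Gm) * (O * Gm) * q by noncomm_ring, hc.eq]
          noncomm_ring
      _ = 0 := by rw [← hq2, hzero, mul_zero]
  have hω : ρ (omega c₀ c x) • (1 : R) = 1 := by
    rw [smul_eq_mul, mul_one, ← hodef, ← hO, ← zero_add (1 : R), ← hq0, hq, add_assoc, h2, add_zero]
  have h0 := H.kill h2 ST hω
  rw [smul_eq_mul, mul_one] at h0
  exact ne_one ST.set hc0 (eq_one_of_dlt h2 hρ h0)

/-- **Main theorem.** Two generating systems of a group without central involution coincide. -/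
theorem subset_of_two_systems (h2 : (1 : R) + 1 = 0) (hρ : Function.Injective ρ) (ST : Sys ρ T)
    (SU : Sys ρ U) (hsep : Sep T) (hgen : Subgroup.closure T = ⊤)
    (hclass : ∀ a ∈ T, ∀ b ∈ T, ∃ g : Γ, g * a * g⁻¹ = b)
    (hcen : ∀ z ∈ Subgroup.center Γ, z * z = 1 → z = 1) : U ⊆ T := by
  intro e he
  have hee := sq SU.set he
  have hei := inv_eq SU.set he
  have himgT : ∀ y ∈ T, e * y * e ∈ T := fun y hy => by simpa [hei] using ST.conj e y hy
  have hcentral : ∀ z : Γ, (∀ y ∈ T, Commute y z) → z ∈ Subgroup.center Γ := by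
    intro z hz
    refine Subgroup.mem_center_iff.2 fun g => ?_
    have hle : Subgroup.closure T ≤ Subgroup.centralizer {z} := (Subgroup.closure_le _).2
      fun y hy => Subgroup.mem_centralizer_iff.2 (by rintro _ rfl; exact (hz y hy).eq.symm)
    exact ((Subgroup.mem_centralizer_iff.1 (hle (hgen ▸ Subgroup.mem_top g))) z rfl).symm
  obtain ⟨d, hd, hmove⟩ : ∃ d ∈ T, e * d * e ≠ d := by
    by_contra h
    push Not at h
    refine ne_one SU.set he (hcen e (hcentral e fun y hy => ?_) hee)
    exact ((commute_iff_conj_eq SU.set he).2 (h y hy)).symm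
  -- the third member on the line of `d` and its image
  have third : ∀ x ∈ T, e * x * e ≠ x → ∃ x₀ ∈ T, e * x₀ * e = x₀ ∧ ¬ Commute x x₀ ∧
      e * x * e = x₀ * x * x₀ := by
    intro x hx hmx
    have hx' := himgT x hx
    have hn : ¬ Commute x (e * x * e) := fun h => hmx (eq_of_commute_image h2 hρ ST SU hsep hx he h)
    have hb := braid ST.set hx hx' hn
    refine ⟨x * (e * x * e) * x, conj_mem_of_mem ST.set ST.conj hx hx', ?_,
      not_commute_conj ST.set hx hn, ?_⟩
    · conv_rhs => rw [hb]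
      rw [show e * (x * (e * x * e) * x) * e = e * x * (e * x) * e * x * e by simp only [mul_assoc]]
      simp only [mul_assoc]
    · calc e * x * e = x * (x * (e * x * e) * x) * x := by
            simp only [mul_assoc, mul_cancel_left ST.set hx, sq ST.set hx, mul_one]
        _ = (x * (e * x * e) * x) * x * (x * (e * x * e) * x) := by
            have hy := conj_mem_of_mem ST.set ST.conj hx hx'
            exact (braid ST.set hx hy (not_commute_conj ST.set hx hn))
  obtain ⟨c₀, hc0, hec0, hdc0, hed⟩ := third d hd hmove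
  -- `z = e * c₀` fixes every member not commuting with `c₀`
  have hz : ∀ x ∈ T, ¬ Commute x c₀ → e * x * e = c₀ * x * c₀ := by
    intro x hx hxc
    have hmx := not_fixed h2 hρ ST SU hsep he hc0 hd hx (fun h => hdc0 h.symm) hxc hec0 hed
    obtain ⟨x₀, hx0, hex0, hxx0, hex⟩ := third x hx hmx
    by_cases hne : x₀ = c₀
    · rw [hex, hne]
    exfalso
    have h0 : Commute c₀ x₀ := by
      by_contra h
      exact not_fixed h2 hρ ST SU hsep he hc0 hd hx0 (fun h => hdc0 h.symm) (fun h' => h h'.symm)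
        hec0 hed hex0
    have hcomm0 : Commute e x₀ := (commute_iff_conj_eq SU.set he).2 hex0
    have hcomm1 : Commute e c₀ := (commute_iff_conj_eq SU.set he).2 hec0
    have s0 := sq ST.set hc0
    have s0' := sq ST.set hx0
    obtain ⟨y, hy⟩ : ∃ y, y = e * x₀ := ⟨_, rfl⟩
    have hyx : Commute y x := by
      show y * x = x * y
      calc y * x = e * x₀ * x := by rw [hy]
        _ = e * (x₀ * x * x₀) * x₀ := by simp only [mul_assoc, s0', mul_one]
        _ = e * (e * x * e) * x₀ := by rw [hex]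
        _ = x * y := by rw [hy]; simp only [← mul_assoc, hee, one_mul]
    have hyc : Commute y c₀ := hy ▸ hcomm1.mul_left h0.symm
    have hyx0 : Commute y x₀ := hy ▸ hcomm0.mul_left (Commute.refl x₀)
    obtain ⟨e', hedef⟩ : ∃ e', e' = e * x₀ * c₀ := ⟨_, rfl⟩
    have he' : e' ∈ U := by
      have hk1 : (x₀ * x) * x₀ * (x₀ * x)⁻¹ = x := by
        rw [mul_inv_rev, inv_eq ST.set hx, inv_eq ST.set hx0,
          show x₀ * x * x₀ * (x * x₀) = x₀ * (x * x₀ * x) * x₀ by group,
          braid ST.set hx hx0 hxx0,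
          show x₀ * (x₀ * x * x₀) * x₀ = (x₀ * x₀) * x * (x₀ * x₀) by group, s0', one_mul, mul_one]
      have hk2 : (x * c₀) * x * (x * c₀)⁻¹ = c₀ := by
        rw [mul_inv_rev, inv_eq ST.set hx, inv_eq ST.set hc0,
          show x * c₀ * x * (c₀ * x) = x * (c₀ * x * c₀) * x by group,
          braid ST.set hc0 hx (fun h => hxc h.symm),
          show x * (x * c₀ * x) * x = (x * x) * c₀ * (x * x) by group, sq ST.set hx, one_mul,
          mul_one]
      have hm := SU.conj ((x * c₀) * (x₀ * x)) e he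
      have hey : e = y * x₀ := by rw [hy, mul_assoc, s0', mul_one]
      have hyk : Commute y ((x * c₀) * (x₀ * x)) :=
        (hyx.mul_right hyc).mul_right (hyx0.mul_right hyx)
      have e1 : (x * c₀) * (x₀ * x) * e * ((x * c₀) * (x₀ * x))⁻¹ = e' := by
        rw [hey, ← mul_assoc _ y, ← hyk.eq,
          show y * (x * c₀ * (x₀ * x)) * x₀ * (x * c₀ * (x₀ * x))⁻¹
            = y * ((x * c₀) * ((x₀ * x) * x₀ * (x₀ * x)⁻¹) * (x * c₀)⁻¹) by group,
          hk1, hk2, hedef, hy]
      rwa [e1] at hm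
    have hei' : e'⁻¹ = e' := inv_eq SU.set he'
    -- conjugation by `e'`
    have conj' : ∀ u, e' * u * e' = e * (x₀ * (c₀ * u * c₀) * x₀) * e := by
      intro u
      conv_lhs => arg 2; rw [← hei']
      rw [hedef, mul_inv_rev, mul_inv_rev, hei, inv_eq ST.set hc0, inv_eq ST.set hx0]
      simp only [mul_assoc]
    have emul : ∀ u w, e * (u * w * u) * e = (e * u * e) * (e * w * e) * (e * u * e) := by
      intro u w
      calc e * (u * w * u) * e = e * u * (e * e) * w * (e * e) * u * e := by
            rw [hee]; simp only [mul_one, mul_assoc]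
        _ = _ := by group
    have fix0 : e' * c₀ * e' = c₀ := by
      rw [conj', s0, one_mul, h0.symm.eq, mul_assoc c₀, s0', mul_one, hec0]
    have fix1 : e' * x₀ * e' = x₀ := by
      rw [conj', h0.eq, mul_assoc x₀ c₀, s0, mul_one, s0', one_mul, hex0]
    -- (i)
    have hdx : ¬ Commute d x₀ := by
      intro h
      have hfd : e' * d * e' = d := by
        have hd2 : Commute x₀ (c₀ * d * c₀) := (h0.symm.mul_right h.symm).mul_right h0.symm
        rw [conj', hd2.eq, mul_assoc _ x₀ x₀, s0', mul_one, ← hed,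
          show e * (e * d * e) * e = (e * e) * d * (e * e) by group, hee, one_mul, mul_one]
      have hmx' : e' * x * e' = c₀ * x * c₀ := by
        rw [conj', emul, emul, hex0, hec0, hex]
        calc x₀ * (c₀ * (x₀ * x * x₀) * c₀) * x₀
            = (x₀ * c₀) * x₀ * x * (x₀ * (c₀ * x₀)) := by group
          _ = (c₀ * x₀) * x₀ * x * (x₀ * (x₀ * c₀)) := by rw [h0.eq]
          _ = c₀ * (x₀ * x₀) * x * ((x₀ * x₀) * c₀) := by group
          _ = c₀ * x * c₀ := by rw [s0', mul_one, one_mul]
      exact not_fixed h2 hρ ST SU hsep he' hc0 hx hd (fun h' => hxc h'.symm) hdc0 fix0 hmx' hfd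
    have hmd' : e' * d * e' = x₀ * d * x₀ := by
      rw [conj', emul, emul, hex0, hec0, hed,
        show c₀ * (c₀ * d * c₀) * c₀ = (c₀ * c₀) * d * (c₀ * c₀) by group, s0, one_mul, mul_one]
    -- (ii)
    have hsub : ∀ w ∈ T, Commute w c₀ → Commute w x₀ := by
      intro w hw hwc
      by_contra hwx
      have hcw : c₀ * w * c₀ = w := (commute_iff_conj_eq ST.set hc0).1 hwc.symm
      have hmw := not_fixed h2 hρ ST SU hsep he hx0 hx hw (fun h => hxx0 h.symm) hwx hex0 hex
      obtain ⟨w₀, hw0, hew0, hww0, hew⟩ := third w hw hmw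
      have hw'eq : e' * w * e' = x₀ * (w₀ * w * w₀) * x₀ := by
        rw [conj', hcw, emul, hex0, hew]
      by_cases hw0x : w₀ = x₀
      · refine not_fixed h2 hρ ST SU hsep he' hx0 hd hw (fun h => hdx h.symm) hwx fix1 hmd' ?_
        rw [hw'eq, hw0x, show x₀ * (x₀ * w * x₀) * x₀ = (x₀ * x₀) * w * (x₀ * x₀) by group, s0',
          one_mul, mul_one]
      have h00 : Commute x₀ w₀ := by
        by_contra h
        exact not_fixed h2 hρ ST SU hsep he hx0 hx hw0 (fun h => hxx0 h.symm)
          (fun h' => h h'.symm) hex0 hex hew0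
      have bx : x₀ * w * x₀ = w * x₀ * w := braid ST.set hx0 hw (fun h => hwx h.symm)
      have bw : w₀ * w * w₀ = w * w₀ * w := braid ST.set hw0 hw (fun h => hww0 h.symm)
      have hfix := eq_of_commute_image h2 hρ ST SU hsep hw he' (by
        rw [hw'eq, ← commute_conj_iff_of_mem ST.set hx0 w,
          show x₀ * (x₀ * (w₀ * w * w₀) * x₀) * x₀ = (x₀ * x₀) * (w₀ * w * w₀) * (x₀ * x₀) by group,
          s0', one_mul, mul_one, bx, bw]
        exact (commute_conj_iff_of_mem ST.set hw x₀ w₀).2 h00)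
      refine hw0x ?_
      rw [hw'eq] at hfix
      have h3 : w * w₀ * w = w * x₀ * w := by
        rw [← bw, ← bx]
        conv_rhs => rw [← hfix]
        simp only [mul_assoc, mul_cancel_left ST.set hx0, s0', mul_one]
      exact mul_left_cancel (mul_right_cancel h3)
    obtain ⟨h, hh, hh1, hh2⟩ := hsep c₀ hc0 x₀ hx0 (fun h => hne h.symm)
    exact hh2 (hsub h hh hh1)
  -- generation
  set H := Subgroup.closure ({c₀} ∪ {x | x ∈ T ∧ ¬ Commute x c₀}) with hH
  have hnormT : ∀ y ∈ T, y ∈ Subgroup.normalizer (H : Set Γ) := by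
    intro y hy
    by_cases hc : Commute y c₀
    · have key : ∀ u ∈ H, y * u * y ∈ H := by
        intro u hu
        induction hu using Subgroup.closure_induction with
        | mem u hu =>
          rcases hu with hu | ⟨huT, hun⟩
          · rw [Set.mem_singleton_iff] at hu
            rw [hu, hc.eq, mul_cancel_right ST.set hy]
            exact Subgroup.subset_closure (Or.inl rfl)
          · refine Subgroup.subset_closure (Or.inr ⟨conj_mem_of_mem ST.set ST.conj hy huT, ?_⟩)
            rw [commute_conj_swap ST.set hy, hc.eq, mul_cancel_right ST.set hy]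
            exact hun
        | one => rw [mul_one, sq ST.set hy]; exact one_mem H
        | mul u v _ _ h1 h2 =>
          rw [show y * (u * v) * y = (y * u * y) * (y * v * y) by
            simp only [mul_assoc, mul_cancel_left ST.set hy]]
          exact mul_mem h1 h2
        | inv u _ h1 =>
          rw [show y * u⁻¹ * y = (y⁻¹ * u * y⁻¹)⁻¹ by group, inv_eq ST.set hy]
          exact inv_mem h1
      refine Subgroup.mem_normalizer_iff.2 fun u => ⟨fun hu => ?_, fun hu => ?_⟩
      · rw [inv_eq ST.set hy]; exact key u hu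
      · have := key _ hu
        rwa [inv_eq ST.set hy, show y * (y * u * y) * y = u by
          simp only [mul_assoc, mul_cancel_left ST.set hy, sq ST.set hy, mul_one]] at this
    · exact Subgroup.le_normalizer (Subgroup.subset_closure (Or.inr ⟨hy, hc⟩))
  have htop : Subgroup.normalizer (H : Set Γ) = ⊤ :=
    top_unique (hgen ▸ (Subgroup.closure_le _).2 hnormT)
  have hTH : T ⊆ H := by
    intro y hy
    obtain ⟨g, rfl⟩ := hclass c₀ hc0 y hy
    exact (Subgroup.mem_normalizer_iff.1 (htop ▸ Subgroup.mem_top g) c₀).1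
      (Subgroup.subset_closure (Or.inl rfl))
  obtain ⟨z, hzdef⟩ : ∃ z, z = e * c₀ := ⟨_, rfl⟩
  have hzc : ∀ y ∈ T, Commute y z := by
    intro y hy
    have hle : H ≤ Subgroup.centralizer {z} := by
      rw [hH, Subgroup.closure_le]
      rintro u hu
      refine Subgroup.mem_centralizer_iff.2 ?_
      rintro _ rfl
      have he0 : Commute e c₀ := (commute_iff_conj_eq SU.set he).2 hec0
      rcases hu with hu | ⟨huT, hun⟩
      · rw [Set.mem_singleton_iff] at hu
        rw [hu, hzdef]; exact (he0.mul_left (Commute.refl c₀)).eq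
      · rw [hzdef]
        calc e * c₀ * u = e * (c₀ * u * c₀) * c₀ := by
              simp only [mul_assoc, sq ST.set hc0, mul_one]
          _ = e * (e * u * e) * c₀ := by rw [hz u huT hun]
          _ = u * (e * c₀) := by simp only [← mul_assoc, hee, one_mul]
    exact ((Subgroup.mem_centralizer_iff.1 (hle (hTH hy))) z rfl).symm
  have he0 : Commute e c₀ := (commute_iff_conj_eq SU.set he).2 hec0
  have hz1 : z = 1 := hcen z (hcentral z hzc) (by
    rw [hzdef, Commute.mul_mul_mul_comm he0.symm e c₀, hee, sq ST.set hc0, one_mul])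
  rw [hzdef] at hz1
  rwa [(mul_eq_one_iff ST.set hc0).1 hz1]

end CfsgLib.TwoTranspClasses
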